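import Cfsg.Agent.Lib.LocalEven.PBasic
/-!
The coset graph of a pair of subgroups and the first lemmas of the amalgam method.
-/

set_option autoImplicit false

namespace CfsgLib.Amalgam

open Subgroup Cfsg CfsgLib.LocalEven MulAction

variable {X : Type*} [Group X] {M₁ M₂ : Subgroup X} {p : ℕ}

/-- the standard edge, translated -/
abbrev vL (M₁ M₂ : Subgroup X) (x : X) : CosetVertex M₁ M₂ := Sum.inl (x : X ⧸ M₁)
abbrev vR (M₁ M₂ : Subgroup X) (x : X) : CosetVertex M₁ M₂ := Sum.inr (x : X ⧸ M₂)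

theorem smul_vL (g x : X) : g • vL M₁ M₂ x = vL M₁ M₂ (g * x) := rfl
theorem smul_vR (g x : X) : g • vR M₁ M₂ x = vR M₁ M₂ (g * x) := rfl

theorem adj_iff {a b : CosetVertex M₁ M₂} : (cosetGraph M₁ M₂).Adj a b ↔
    ∃ x : X, (a = vL M₁ M₂ x ∧ b = vR M₁ M₂ x) ∨ (b = vL M₁ M₂ x ∧ a = vR M₁ M₂ x) := by
  simp only [cosetGraph, SimpleGraph.fromRel_adj]
  constructor
  · rintro ⟨-, ⟨x, h⟩ | ⟨x, h⟩⟩
    exacts [⟨x, Or.inl h⟩, ⟨x, Or.inr h⟩]
  · rintro ⟨x, h | h⟩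
    · exact ⟨by rw [h.1, h.2]; simp, Or.inl ⟨x, h⟩⟩
    · exact ⟨by rw [h.1, h.2]; simp, Or.inr ⟨x, h⟩⟩

theorem adj_smul (g : X) {a b : CosetVertex M₁ M₂} (h : (cosetGraph M₁ M₂).Adj a b) :
    (cosetGraph M₁ M₂).Adj (g • a) (g • b) := by
  obtain ⟨x, h | h⟩ := adj_iff.1 h
  · exact adj_iff.2 ⟨g * x, Or.inl (by rw [h.1, h.2]; exact ⟨rfl, rfl⟩)⟩
  · exact adj_iff.2 ⟨g * x, Or.inr (by rw [h.1, h.2]; exact ⟨rfl, rfl⟩)⟩

theorem stabilizer_vL (x : X) : stabilizer X (vL M₁ M₂ x) = cj x M₁ := by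
  ext g
  rw [mem_stabilizer_iff, smul_vL, mem_cj]
  simp only [vL, Sum.inl.injEq]
  rw [eq_comm, QuotientGroup.eq, mul_assoc]

theorem stabilizer_vR (x : X) : stabilizer X (vR M₁ M₂ x) = cj x M₂ := by
  ext g
  rw [mem_stabilizer_iff, smul_vR, mem_cj]
  simp only [vR, Sum.inr.injEq]
  rw [eq_comm, QuotientGroup.eq, mul_assoc]

theorem exists_rep (δ : CosetVertex M₁ M₂) : ∃ x, δ = vL M₁ M₂ x ∨ δ = vR M₁ M₂ x := by
  rcases δ with q | q
  · obtain ⟨x, rfl⟩ := QuotientGroup.mk_surjective q; exact ⟨x, Or.inl rfl⟩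
  · obtain ⟨x, rfl⟩ := QuotientGroup.mk_surjective q; exact ⟨x, Or.inr rfl⟩

theorem connected (hgen : M₁ ⊔ M₂ = ⊤) : (cosetGraph M₁ M₂).Connected := by
  set Γ := cosetGraph M₁ M₂
  have hLR : ∀ x, Γ.Reachable (vL M₁ M₂ x) (vR M₁ M₂ x) :=
    fun x => (adj_iff.2 ⟨x, Or.inl ⟨rfl, rfl⟩⟩).reachable
  have key : ∀ g : X, ∀ x, Γ.Reachable (vL M₁ M₂ x) (vL M₁ M₂ (x * g)) := by
    intro g
    have hg : g ∈ M₁ ⊔ M₂ := hgen ▸ mem_top g
    rw [sup_eq_closure] at hg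
    induction hg using closure_induction with
    | mem a ha =>
      intro x
      rcases ha with ha | ha
      · rw [show vL M₁ M₂ (x * a) = vL M₁ M₂ x from congrArg Sum.inl (QuotientGroup.mk_mul_of_mem x ha)]
      · refine (hLR x).trans ?_
        rw [← show vR M₁ M₂ (x * a) = vR M₁ M₂ x from congrArg Sum.inr (QuotientGroup.mk_mul_of_mem x ha)]
        exact (hLR (x * a)).symm
    | one => intro x; rw [mul_one]
    | mul a b _ _ iha ihb =>
      intro x; rw [← mul_assoc]; exact (iha x).trans (ihb _)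
    | inv a _ ih =>
      intro x
      have := ih (x * a⁻¹)
      rw [inv_mul_cancel_right] at this
      exact this.symm
  have hall : ∀ v, Γ.Reachable (vL M₁ M₂ 1) v := by
    intro v
    obtain ⟨x, rfl | rfl⟩ := exists_rep v
    · simpa using key x 1
    · exact ((key x 1).trans (by rw [one_mul]; exact hLR x))
  exact ⟨fun a b => (hall a).symm.trans (hall b)⟩

theorem neighbours_transitive (δ μ μ' : CosetVertex M₁ M₂)
    (hμ : (cosetGraph M₁ M₂).Adj δ μ) (hμ' : (cosetGraph M₁ M₂).Adj δ μ') :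
    ∃ g ∈ stabilizer X δ, g • μ = μ' := by
  obtain ⟨x, ⟨h1, h2⟩ | ⟨h1, h2⟩⟩ := adj_iff.1 hμ <;>
    obtain ⟨y, ⟨k1, k2⟩ | ⟨k1, k2⟩⟩ := adj_iff.1 hμ'
  · refine ⟨y * x⁻¹, ?_, ?_⟩
    · rw [mem_stabilizer_iff]
      conv_lhs => rw [h1, smul_vL, inv_mul_cancel_right, ← k1]
    · rw [h2, smul_vR, inv_mul_cancel_right, k2]
  · simp [h1] at k2
  · simp [h2] at k1
  · refine ⟨y * x⁻¹, ?_, ?_⟩
    · rw [mem_stabilizer_iff]
      conv_lhs => rw [h2, smul_vR, inv_mul_cancel_right, ← k2]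
    · rw [h1, smul_vL, inv_mul_cancel_right, k1]

theorem mem_neighbourKernel {δ : CosetVertex M₁ M₂} {g : X} :
    g ∈ neighbourKernel δ ↔ g ∈ stabilizer X δ ∧
      ∀ μ, (cosetGraph M₁ M₂).Adj δ μ → g ∈ stabilizer X μ := by
  simp only [neighbourKernel, mem_inf, mem_iInf, SimpleGraph.mem_neighborSet]

theorem kernel_le_inf : (MulAction.toPermHom X (CosetVertex M₁ M₂)).ker ≤ M₁ ⊓ M₂ := by
  intro g hg
  have h : ∀ v : CosetVertex M₁ M₂, g • v = v := fun v =>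
    Equiv.Perm.congr_fun (MonoidHom.mem_ker.1 hg) v
  have h1 : g ∈ stabilizer X (vL M₁ M₂ 1) := h _
  have h2 : g ∈ stabilizer X (vR M₁ M₂ 1) := h _
  rw [stabilizer_vL, cj_one] at h1
  rw [stabilizer_vR, cj_one] at h2
  exact ⟨h1, h2⟩

theorem faithful (h : ∀ N : Subgroup X, N ≤ M₁ ⊓ M₂ → N.Normal → N = ⊥) :
    Function.Injective (MulAction.toPermHom X (CosetVertex M₁ M₂)) :=
  (MonoidHom.ker_eq_bot_iff _).1 (h _ kernel_le_inf inferInstance)

/-- A subgroup fixing an edge whose normalizer is transitive on the neighbours of both ends is trivial. -/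
theorem fixed_trivial (hgen : M₁ ⊔ M₂ = ⊤)
    (hcore : ∀ N : Subgroup X, N ≤ M₁ ⊓ M₂ → N.Normal → N = ⊥)
    (δ μ : CosetVertex M₁ M₂) (hadj : (cosetGraph M₁ M₂).Adj δ μ) (T : Subgroup X)
    (hT : T ≤ edgeStabilizer δ μ)
    (hδ : ∀ ν, (cosetGraph M₁ M₂).Adj δ ν →
      ∃ g ∈ normalizer (T : Set X), g • δ = δ ∧ g • μ = ν)
    (hμ : ∀ ν, (cosetGraph M₁ M₂).Adj μ ν →
      ∃ g ∈ normalizer (T : Set X), g • μ = μ ∧ g • δ = ν) : T = ⊥ := by
  let W : Set (CosetVertex M₁ M₂) :=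
    {v | ∃ g ∈ normalizer (T : Set X), v = g • δ ∨ v = g • μ}
  have hstep : ∀ {a b}, (cosetGraph M₁ M₂).Adj a b → a ∈ W → b ∈ W := by
    rintro a b hab ⟨g, hg, rfl | rfl⟩
    · have := adj_smul g⁻¹ hab
      rw [inv_smul_smul] at this
      obtain ⟨n, hn, -, hn2⟩ := hδ _ this
      exact ⟨g * n, mul_mem hg hn, Or.inr (by rw [mul_smul, hn2, smul_inv_smul])⟩
    · have := adj_smul g⁻¹ hab
      rw [inv_smul_smul] at this
      obtain ⟨n, hn, -, hn2⟩ := hμ _ this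
      exact ⟨g * n, mul_mem hg hn, Or.inl (by rw [mul_smul, hn2, smul_inv_smul])⟩
  have hall : ∀ v, v ∈ W := by
    intro v
    obtain ⟨w⟩ := (connected hgen).preconnected δ v
    have : ∀ {a b} (w : (cosetGraph M₁ M₂).Walk a b), a ∈ W → b ∈ W := by
      intro a b w
      induction w with
      | nil => exact id
      | cons h _ ih => exact fun ha => ih (hstep h ha)
    exact this w ⟨1, one_mem _, Or.inl (one_smul _ _).symm⟩
  refine (MonoidHom.ker_eq_bot_iff _).2 (faithful hcore) |> fun hk => eq_bot_iff.2 ?_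
  intro t ht
  rw [← hk, MonoidHom.mem_ker]
  ext v
  obtain ⟨g, hg, hv⟩ := hall v
  have ht' := hT ((mem_normalizer_iff''.1 hg t).1 ht)
  have e : ∀ u : CosetVertex M₁ M₂, (g⁻¹ * t * g) • u = u → t • g • u = g • u := by
    intro u hu
    conv_rhs => rw [← hu]
    rw [← mul_smul, ← mul_smul]
    congr 1
    group
  rcases hv with rfl | rfl
  · exact e δ ht'.1
  · exact e μ ht'.2

/-- Transport of statements from the standard edge. -/
theorem edge_cases {a b : CosetVertex M₁ M₂} (h : (cosetGraph M₁ M₂).Adj a b) :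
    ∃ x, edgeStabilizer a b = cj x (M₁ ⊓ M₂) ∧
      ((stabilizer X a = cj x M₁ ∧ stabilizer X b = cj x M₂) ∨
        (stabilizer X a = cj x M₂ ∧ stabilizer X b = cj x M₁)) := by
  obtain ⟨x, ⟨h1, h2⟩ | ⟨h1, h2⟩⟩ := adj_iff.1 h
  · subst h1; subst h2
    exact ⟨x, by rw [edgeStabilizer, stabilizer_vL, stabilizer_vR, cj_inf],
      Or.inl ⟨stabilizer_vL x, stabilizer_vR x⟩⟩
  · subst h1; subst h2
    exact ⟨x, by rw [edgeStabilizer, stabilizer_vL, stabilizer_vR, cj_inf, inf_comm],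
      Or.inr ⟨stabilizer_vR x, stabilizer_vL x⟩⟩

theorem exists_adj (δ : CosetVertex M₁ M₂) : ∃ μ, (cosetGraph M₁ M₂).Adj δ μ := by
  obtain ⟨x, rfl | rfl⟩ := exists_rep δ
  · exact ⟨_, adj_iff.2 ⟨x, Or.inl ⟨rfl, rfl⟩⟩⟩
  · exact ⟨_, adj_iff.2 ⟨x, Or.inr ⟨rfl, rfl⟩⟩⟩

theorem finite_stabilizer (h : IsCharPAmalgamPair p M₁ M₂) (δ : CosetVertex M₁ M₂) :
    Finite (stabilizer X δ) := by
  haveI := h.2.1
  haveI := h.2.2.1
  obtain ⟨x, rfl | rfl⟩ := exists_rep δ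
  · rw [stabilizer_vL]
    exact Finite.of_equiv _ ((MulAut.conj x).subgroupMap M₁).toEquiv
  · rw [stabilizer_vR]
    exact Finite.of_equiv _ ((MulAut.conj x).subgroupMap M₂).toEquiv

theorem charP_stabilizer (h : IsCharPAmalgamPair p M₁ M₂) (δ : CosetVertex M₁ M₂) :
    stabilizer X δ ⊓ centralizer (pCoreOf p (stabilizer X δ) : Set X) ≤
      pCoreOf p (stabilizer X δ) := by
  obtain ⟨x, rfl | rfl⟩ := exists_rep δ
  · rw [stabilizer_vL, ← pCoreOf_cj, ← cj_centralizer, ← cj_inf]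
    exact cj_le_cj (centralizer_pCoreOf_le h.2.2.2.2.2.2.1)
  · rw [stabilizer_vR, ← pCoreOf_cj, ← cj_centralizer, ← cj_inf]
    exact cj_le_cj (centralizer_pCoreOf_le h.2.2.2.2.2.2.2)

variable [Fact p.Prime]

theorem isSylOf_edge (h : IsCharPAmalgamPair p M₁ M₂) {a b : CosetVertex M₁ M₂}
    (hab : (cosetGraph M₁ M₂).Adj a b) {T : Subgroup X}
    (hT : IsSylOf p T (edgeStabilizer a b)) :
    IsSylOf p T (stabilizer X a) ∧ IsSylOf p T (stabilizer X b) := by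
  haveI := h.2.1
  haveI := h.2.2.1
  haveI : Finite ↥(M₁ ⊓ M₂) := Finite.of_injective _ (inclusion_injective inf_le_left)
  have hc := h.2.2.2.2.2.1 default default default
  simp only [Sylow.card_eq_multiplicity] at hc
  obtain ⟨x, hE, hv⟩ := edge_cases hab
  have hTc : Nat.card T = p ^ (Nat.card ↥(M₁ ⊓ M₂)).factorization p := by
    rw [hT.2, hE, card_cj]
  have ha : T ≤ stabilizer X a := hT.1.trans inf_le_left
  have hb : T ≤ stabilizer X b := hT.1.trans inf_le_right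
  rcases hv with ⟨e1, e2⟩ | ⟨e1, e2⟩
  · exact ⟨⟨ha, by rw [hTc, hc.1, e1, card_cj]⟩, hb, by rw [hTc, hc.2, e2, card_cj]⟩
  · exact ⟨⟨ha, by rw [hTc, hc.2, e1, card_cj]⟩, hb, by rw [hTc, hc.1, e2, card_cj]⟩

theorem finite_edge (h : IsCharPAmalgamPair p M₁ M₂) (a b : CosetVertex M₁ M₂) :
    Finite ↥(edgeStabilizer a b) :=
  haveI := finite_stabilizer h a
  Finite.of_injective _ (inclusion_injective inf_le_left)

theorem vertexQ_le_neighbourKernel (h : IsCharPAmalgamPair p M₁ M₂)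
    (δ : CosetVertex M₁ M₂) : vertexQ p δ ≤ neighbourKernel δ := by
  intro g hg
  haveI := finite_stabilizer h δ
  refine mem_neighbourKernel.2 ⟨pCoreOf_le_self _ hg, fun μ hμ => ?_⟩
  haveI := finite_edge h δ μ
  obtain ⟨T, hT⟩ := exists_isSylOf (p := p) (edgeStabilizer δ μ)
  exact (hT.1 ((isSylOf_edge h hμ hT).1.pCoreOf_le hg)).2

theorem vertexZ_le_vertexQ (h : IsCharPAmalgamPair p M₁ M₂) (δ : CosetVertex M₁ M₂) :
    vertexZ p δ ≤ vertexQ p δ :=
  haveI := finite_stabilizer h δ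
  sylowCenterClosure_le_pCoreOf (charP_stabilizer h δ)

theorem vertexZ_le_stabilizer (h : IsCharPAmalgamPair p M₁ M₂) (δ : CosetVertex M₁ M₂) :
    vertexZ p δ ≤ stabilizer X δ :=
  (vertexZ_le_vertexQ h δ).trans (pCoreOf_le_self _)

theorem le_kernel_of_dist_lt {δ μ : CosetVertex M₁ M₂}
    (hd : (cosetGraph M₁ M₂).dist δ μ < criticalDistance p M₁ M₂) :
    vertexZ p δ ≤ neighbourKernel μ := by
  by_contra hc
  exact absurd (Nat.sInf_le (s := {n : ℕ | ∃ δ μ : CosetVertex M₁ M₂,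
    (cosetGraph M₁ M₂).dist δ μ = n ∧ ¬ vertexZ p δ ≤ neighbourKernel μ}) ⟨δ, μ, rfl, hc⟩)
    (not_le.2 hd)

theorem critical_ne (h : IsCharPAmalgamPair p M₁ M₂) {α α' : CosetVertex M₁ M₂}
    (hc : IsCriticalPair p α α') : α ≠ α' := by
  rintro rfl
  exact hc.1 ((vertexZ_le_vertexQ h α).trans (vertexQ_le_neighbourKernel h α))

omit [Fact p.Prime] in
theorem exists_closer (hgen : M₁ ⊔ M₂ = ⊤) {a b : CosetVertex M₁ M₂} (hne : a ≠ b) :
    ∃ c, (cosetGraph M₁ M₂).Adj a c ∧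
      (cosetGraph M₁ M₂).dist c b < (cosetGraph M₁ M₂).dist a b := by
  obtain ⟨w, hw⟩ := (connected hgen).exists_walk_length_eq_dist a b
  cases w with
  | nil => exact absurd rfl hne
  | cons hadj w =>
    refine ⟨_, hadj, ?_⟩
    rw [SimpleGraph.Walk.length_cons] at hw
    exact lt_of_le_of_lt (SimpleGraph.dist_le w) (by omega)

theorem exists_critical_step (h : IsCharPAmalgamPair p M₁ M₂) {α α' : CosetVertex M₁ M₂}
    (hc : IsCriticalPair p α α') :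
    ∃ β, (cosetGraph M₁ M₂).Adj α β ∧
      (cosetGraph M₁ M₂).dist β α' < criticalDistance p M₁ M₂ := by
  rw [← hc.2]
  exact exists_closer h.1.1 (critical_ne h hc)

theorem vertexZ_le_stabilizer_critical (h : IsCharPAmalgamPair p M₁ M₂)
    {α α' : CosetVertex M₁ M₂} (hc : IsCriticalPair p α α') :
    vertexZ p α' ≤ stabilizer X α ∧ vertexZ p α ≤ stabilizer X α' := by
  constructor
  · obtain ⟨β, hadj, hd⟩ := exists_closer h.1.1 (critical_ne h hc)
    intro g hg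
    have := le_kernel_of_dist_lt (δ := α') (μ := β)
      (by rw [SimpleGraph.dist_comm, ← hc.2]; exact hd) hg
    exact (mem_neighbourKernel.1 this).2 α hadj.symm
  · obtain ⟨β, hadj, hd⟩ := exists_closer h.1.1 (critical_ne h hc).symm
    intro g hg
    have := le_kernel_of_dist_lt (δ := α) (μ := β)
      (by rw [SimpleGraph.dist_comm, ← hc.2, (cosetGraph M₁ M₂).dist_comm (u := α)]; exact hd) hg
    exact (mem_neighbourKernel.1 this).2 α' hadj.symm

end CfsgLib.Amalgam
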