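import Cfsg.Agent.Lib.Amalgam.Basic
/-!
`O^{p'}` of vertex stabilisers.
-/

set_option autoImplicit false

namespace CfsgLib.Amalgam

open Subgroup Cfsg CfsgLib.LocalEven MulAction

variable {X : Type*} [Group X] {p : ℕ}

theorem pElementClosure_le_self (H : Subgroup X) : pElementClosure p H ≤ H :=
  (closure_le _).2 fun _ hx => hx.1

theorem le_pElementClosure_of_isPGroup [Fact p.Prime] {P H : Subgroup X} (hP : IsPGroup p P)
    (hle : P ≤ H) : P ≤ pElementClosure p H := fun x hx => subset_closure ⟨hle hx, by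
  obtain ⟨k, hk⟩ := IsPGroup.iff_orderOf.1 hP ⟨x, hx⟩
  exact ⟨k, by rwa [Subgroup.orderOf_mk] at hk⟩⟩

theorem cj_pElementClosure (g : X) (H : Subgroup X) :
    cj g (pElementClosure p H) = pElementClosure p (cj g H) := by
  simp only [pElementClosure, cj, MonoidHom.map_closure]
  congr 1
  ext y
  constructor
  · rintro ⟨x, ⟨hx, k, hk⟩, rfl⟩
    exact ⟨mem_map_of_mem _ hx, k, by rw [MulEquiv.coe_toMonoidHom, MulEquiv.orderOf_eq, hk]⟩
  · rintro ⟨⟨x, hx, rfl⟩, k, hk⟩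
    exact ⟨x, ⟨hx, k, by rwa [MulEquiv.coe_toMonoidHom, MulEquiv.orderOf_eq] at hk⟩, rfl⟩

theorem le_normalizer_pElementClosure (H : Subgroup X) :
    H ≤ normalizer (pElementClosure p H : Set X) := by
  intro g hg
  rw [mem_normalizer_iff_cj, cj_pElementClosure, cj_of_mem hg]

/-- Frattini argument for `O^{p'}`: `H = O^{p'}(H) N_H(T)`. -/
theorem exists_normalizer_mul [Fact p.Prime] {T H : Subgroup X} [Finite H]
    (hT : IsSylOf p T H) {g : X} (hg : g ∈ H) :
    ∃ k ∈ pElementClosure p H, ∃ n ∈ H, n ∈ normalizer (T : Set X) ∧ g = k * n := by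
  have hKH := pElementClosure_le_self (p := p) H
  haveI : Finite ↥(pElementClosure p H) := Finite.of_injective _ (inclusion_injective hKH)
  have hTK := le_pElementClosure_of_isPGroup hT.isPGroup hT.1
  have hgT : IsSylOf p (cj g T) H := by
    have := hT.cj g
    rwa [cj_of_mem hg] at this
  have hgTK := le_pElementClosure_of_isPGroup hgT.isPGroup hgT.1
  have key : ∀ {U}, IsSylOf p U H → U ≤ pElementClosure p H →
      IsSylOf p U (pElementClosure p H) := by
    intro U hU hUK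
    obtain ⟨V, hV, hUV⟩ := exists_isSylOf_ge (p := p) hU.isPGroup hUK
    rwa [← hU.of_isPGroup_ge hV.isPGroup hUV (hV.1.trans hKH)]
  obtain ⟨k, hk, hkT⟩ := (key hT hTK).exists_conj (key hgT hgTK)
  refine ⟨k, hk, k⁻¹ * g, mul_mem (inv_mem (hKH hk)) hg, ?_, (mul_inv_cancel_left k g).symm⟩
  rw [mem_normalizer_iff_cj, ← cj_cj, ← hkT, cj_cj, inv_mul_cancel, cj_one]

variable {M₁ M₂ : Subgroup X}

theorem edgeStabilizer_comm (a b : CosetVertex M₁ M₂) :
    edgeStabilizer a b = edgeStabilizer b a := inf_comm _ _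

theorem normalizer_le_of_spe [Fact p.Prime] (h : IsSpeAmalgamPair p M₁ M₂)
    {a b : CosetVertex M₁ M₂} (hab : (cosetGraph M₁ M₂).Adj a b) {T : Subgroup X}
    (hT : IsSylOf p T (edgeStabilizer a b)) :
    stabilizer X a ⊓ normalizer (T : Set X) ≤ stabilizer X b := by
  haveI := h.1.2.1
  haveI : Finite ↥(M₁ ⊓ M₂) := Finite.of_injective _ (inclusion_injective inf_le_left)
  obtain ⟨x, hE, hv⟩ := edge_cases hab
  have hT' : IsSylOf p (cj x⁻¹ T) (M₁ ⊓ M₂) := by
    have := hT.cj x⁻¹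
    rwa [hE, cj_cj, inv_mul_cancel, cj_one] at this
  obtain ⟨S, hS⟩ := hT'.exists_sylow
  have h2 := h.2.1 S
  rw [← hS] at h2
  rintro n ⟨hna, hnT⟩
  have hn' : x⁻¹ * n * x ∈ normalizer (cj x⁻¹ T : Set X) := by
    rw [mem_normalizer_iff_cj, cj_cj, mul_assoc, mul_inv_cancel, mul_one, ← cj_cj,
      mem_normalizer_iff_cj.1 hnT]
  rcases hv with ⟨e1, e2⟩ | ⟨e1, e2⟩ <;> replace hna := mem_cj.1 (e1.le hna) <;>
    refine e2.ge (mem_cj.2 ?_)
  · exact (h2.2 ⟨hna, hn'⟩).2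
  · exact (h2.2 (h2.1 ▸ ⟨hna, hn'⟩)).1

theorem closure_transitive [Fact p.Prime] (h : IsSpeAmalgamPair p M₁ M₂)
    {a b ν : CosetVertex M₁ M₂} (hab : (cosetGraph M₁ M₂).Adj a b) {T : Subgroup X}
    (hT : IsSylOf p T (edgeStabilizer a b)) (hν : (cosetGraph M₁ M₂).Adj a ν) {U : Subgroup X}
    (hU : pElementClosure p (stabilizer X a) ≤ normalizer (U : Set X)) :
    ∃ g ∈ normalizer (U : Set X), g • a = a ∧ g • b = ν := by
  obtain ⟨g, hg, hgν⟩ := neighbours_transitive a b ν hab hν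
  haveI := finite_stabilizer h.1 a
  obtain ⟨k, hk, n, hn, hnT, rfl⟩ := exists_normalizer_mul (isSylOf_edge h.1 hab hT).1 hg
  refine ⟨k, hU hk, pElementClosure_le_self _ hk, ?_⟩
  rw [← hgν, mul_smul, mem_stabilizer_iff.1 (normalizer_le_of_spe h hab hT ⟨hn, hnT⟩)]

end CfsgLib.Amalgam
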