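import Cfsg.Agent.Lib.Amalgam.Basic
import Cfsg.Agent.Lib.Amalgam.PClosure
import Cfsg.Agent.Lib.LocalStr.Basic
import Cfsg.Agent.Lib.Transfer.PGroup
import Cfsg.Prelude.Def_LocalStructure

/-!
The iterated closures `V_δ^{(n)}` on the coset graph.
-/

set_option autoImplicit false
set_option linter.style.haveILetI false

namespace CfsgLib.Amalgam

open Subgroup Cfsg CfsgLib.LocalEven MulAction
open scoped commutatorElement

variable {X : Type*} [Group X] {M₁ M₂ : Subgroup X} {p : ℕ}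

theorem dist_smul_le (hgen : M₁ ⊔ M₂ = ⊤) (g : X) (a b : CosetVertex M₁ M₂) :
    (cosetGraph M₁ M₂).dist (g • a) (g • b) ≤ (cosetGraph M₁ M₂).dist a b := by
  obtain ⟨w, hw⟩ := (connected hgen).exists_walk_length_eq_dist a b
  have : ∀ {u v} (w : (cosetGraph M₁ M₂).Walk u v),
      ∃ w' : (cosetGraph M₁ M₂).Walk (g • u) (g • v), w'.length = w.length := by
    intro u v w
    induction w with
    | nil => exact ⟨.nil, rfl⟩
    | cons h _ ih =>
      obtain ⟨w', hw'⟩ := ih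
      exact ⟨.cons (adj_smul g h) w', by simp [hw']⟩
  obtain ⟨w', hw'⟩ := this w
  rw [← hw, ← hw']
  exact SimpleGraph.dist_le w'

variable [Fact p.Prime]

theorem cj_vertexZ_le (h : IsCharPAmalgamPair p M₁ M₂) (g : X) (μ : CosetVertex M₁ M₂) :
    cj g (vertexZ p μ) ≤ vertexZ p (g • μ) := by
  haveI := finite_stabilizer h μ
  haveI := finite_stabilizer h (g • μ)
  rw [cj, map_le_iff_le_comap]
  refine sylowCenterClosure_le fun T hT => ?_
  rw [← map_le_iff_le_comap]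
  show cj g (omegaZ p T) ≤ _
  rw [cj_omegaZ]
  refine IsSylOf.omegaZ_le ?_
  have e : cj g (stabilizer X μ) = stabilizer X (g • μ) := by
    rw [stabilizer_smul_eq_stabilizer_map_conj]
  exact e ▸ hT.cj g

theorem vertexVIter_mono {a b : CosetVertex M₁ M₂} {m n : ℕ}
    (hmn : ∀ μ, (cosetGraph M₁ M₂).dist a μ ≤ m → (cosetGraph M₁ M₂).dist b μ ≤ n) :
    vertexVIter p M₁ M₂ m a ≤ vertexVIter p M₁ M₂ n b :=
  iSup_le fun μ => le_iSup (fun μ : {μ : CosetVertex M₁ M₂ //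
    (cosetGraph M₁ M₂).dist b μ ≤ n} => vertexZ p (μ : CosetVertex M₁ M₂)) ⟨μ, hmn μ μ.2⟩

theorem cj_vertexVIter_le (h : IsCharPAmalgamPair p M₁ M₂) (g : X) (n : ℕ)
    (a : CosetVertex M₁ M₂) :
    cj g (vertexVIter p M₁ M₂ n a) ≤ vertexVIter p M₁ M₂ n (g • a) := by
  rw [cj, map_le_iff_le_comap]
  refine iSup_le fun μ => ?_
  rw [← map_le_iff_le_comap]
  exact (cj_vertexZ_le h g μ).trans (le_iSup (fun ν : {ν : CosetVertex M₁ M₂ //
    (cosetGraph M₁ M₂).dist (g • a) ν ≤ n} => vertexZ p (ν : CosetVertex M₁ M₂))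
      ⟨g • (μ : CosetVertex M₁ M₂), (dist_smul_le h.1.1 g a μ).trans μ.2⟩)

theorem stabilizer_le_normalizer_vertexVIter (h : IsCharPAmalgamPair p M₁ M₂) (n : ℕ)
    (a : CosetVertex M₁ M₂) :
    stabilizer X a ≤ normalizer (vertexVIter p M₁ M₂ n a : Set X) := by
  intro g hg
  rw [mem_normalizer_iff_cj]
  refine le_antisymm ?_ ?_
  · have h1 := cj_vertexVIter_le h g n a
    rwa [mem_stabilizer_iff.1 hg] at h1
  · have h1 := cj_le_cj (g := g) (cj_vertexVIter_le h g⁻¹ n a)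
    rwa [mem_stabilizer_iff.1 (inv_mem hg), cj_cj, mul_inv_cancel, cj_one] at h1

/-- `O^p(O^{p'}(G_a))` moves a neighbour to every neighbour. -/
theorem residual_transitive (h : IsSpeAmalgamPair p M₁ M₂) {a b ν : CosetVertex M₁ M₂}
    (hab : (cosetGraph M₁ M₂).Adj a b) (hν : (cosetGraph M₁ M₂).Adj a ν) :
    ∃ r ∈ (pResidual p ↥(pElementClosure p (stabilizer X a))).map
      (pElementClosure p (stabilizer X a)).subtype, r • b = ν := by
  haveI := finite_stabilizer h.1 a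
  haveI := finite_edge h.1 a b
  obtain ⟨T, hT⟩ := exists_isSylOf (p := p) (edgeStabilizer a b)
  obtain ⟨g, hg, hgν⟩ := neighbours_transitive a b ν hab hν
  obtain ⟨hTa, -⟩ := isSylOf_edge h.1 hab hT
  obtain ⟨k, hk, n, hn, hnT, rfl⟩ := exists_normalizer_mul hTa hg
  have hkν : k • b = ν := by
    rw [← hgν, mul_smul, mem_stabilizer_iff.1 (normalizer_le_of_spe h hab hT ⟨hn, hnT⟩)]
  set L := pElementClosure p (stabilizer X a) with hL
  have hLa : L ≤ stabilizer X a := pElementClosure_le_self _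
  haveI : Finite L := Finite.of_injective _ (inclusion_injective hLa)
  have hTL : T ≤ L := le_pElementClosure_of_isPGroup hTa.isPGroup hTa.1
  obtain ⟨U, hU, hTU⟩ := exists_isSylOf_ge hTa.isPGroup hTL
  have hUT : U = T := hTa.of_isPGroup_ge hU.isPGroup hTU (hU.1.trans hLa)
  rw [hUT] at hU
  obtain ⟨S, hS⟩ := hU.exists_sylow
  have hk' : (⟨k, hk⟩ : L) ∈ ((pResidual p L ⊔ (S : Subgroup L) : Subgroup L) : Set L) := by
    rw [LocalStr.pResidual_sup_sylow S]
    exact mem_top _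
  haveI := LocalStr.pResidual_normal L p
  rw [coe_mul_of_right_le_normalizer_left _ _ le_normalizer_of_normal] at hk'
  obtain ⟨r, hr, s, hs, hrs⟩ := Set.mem_mul.1 hk'
  refine ⟨r, mem_map_of_mem _ hr, ?_⟩
  have hsb : (s : X) • b = b := mem_stabilizer_iff.1 (hT.1 (hS ▸ mem_map_of_mem _ hs)).2
  have h2 : k = (r : X) * (s : X) := (congrArg Subtype.val hrs).symm
  rw [← hkν, h2, mul_smul, hsb]

theorem exists_vertexVIter_sup (h : IsSpeAmalgamPair p M₁ M₂) {a b : CosetVertex M₁ M₂}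
    (hab : (cosetGraph M₁ M₂).Adj a b) {n : ℕ} (hn : 1 ≤ n) :
    vertexVIter p M₁ M₂ (n - 1) b ≤ vertexVIter p M₁ M₂ n a ∧
      vertexVIter p M₁ M₂ n a ≤ vertexVIter p M₁ M₂ (n - 1) b ⊔
        ⁅vertexVIter p M₁ M₂ n a, (pResidual p ↥(pElementClosure p (stabilizer X a))).map
          (pElementClosure p (stabilizer X a)).subtype⁆ := by
  set V := vertexVIter p M₁ M₂ n a with hV
  set W := vertexVIter p M₁ M₂ (n - 1) b with hW
  set R := (pResidual p ↥(pElementClosure p (stabilizer X a))).map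
    (pElementClosure p (stabilizer X a)).subtype with hR
  have hconn := connected h.1.1.1
  have hd : ∀ {c μ}, (cosetGraph M₁ M₂).Adj a c →
      (cosetGraph M₁ M₂).dist a μ ≤ (cosetGraph M₁ M₂).dist c μ + 1 := fun {c μ} hc => by
    have := hconn.dist_triangle (u := a) (v := c) (w := μ)
    rw [SimpleGraph.dist_eq_one_iff_adj.2 hc] at this
    omega
  have hWV : W ≤ V := vertexVIter_mono fun μ hμ => by
    have := hd (μ := μ) hab
    omega
  refine ⟨hWV, ?_⟩
  -- translates of `W`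
  have hmove : ∀ r ∈ R, cj r W ≤ W ⊔ ⁅V, R⁆ := by
    rintro r hr _ ⟨w, hw, rfl⟩
    show r * w * r⁻¹ ∈ _
    rw [show r * w * r⁻¹ = w * ⁅w⁻¹, r⁆ by rw [commutatorElement_def]; group]
    exact mul_mem (mem_sup_left hw)
      (mem_sup_right (commutator_mem_commutator (hWV (inv_mem hw)) hr))
  have hnb : ∀ ν, (cosetGraph M₁ M₂).Adj a ν →
      vertexVIter p M₁ M₂ (n - 1) ν ≤ W ⊔ ⁅V, R⁆ := by
    intro ν hν
    obtain ⟨r, hr, rfl⟩ := residual_transitive h hab hν
    refine le_trans ?_ (hmove r hr)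
    have h1 := cj_le_cj (g := r) (cj_vertexVIter_le h.1 r⁻¹ (n - 1) (r • b))
    rwa [inv_smul_smul, cj_cj, mul_inv_cancel, cj_one] at h1
  refine iSup_le fun μ => ?_
  obtain ⟨μ, hμ⟩ := μ
  by_cases hμa : μ = a
  · subst hμa
    haveI := finite_stabilizer h.1 μ
    haveI := finite_edge h.1 μ b
    refine sylowCenterClosure_le fun S hS => ?_
    obtain ⟨T, hT⟩ := exists_isSylOf (p := p) (edgeStabilizer μ b)
    obtain ⟨hTa, hTb⟩ := isSylOf_edge h.1 hab hT
    obtain ⟨g, hg, hgT⟩ := hTa.exists_conj hS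
    have hadj : (cosetGraph M₁ M₂).Adj μ (g • b) := by
      have := adj_smul g hab
      rwa [mem_stabilizer_iff.1 hg] at this
    refine le_trans ?_ (hnb _ hadj)
    haveI := finite_stabilizer h.1 b
    haveI := finite_stabilizer h.1 (g • b)
    rw [← hgT, ← cj_omegaZ]
    refine (cj_le_cj hTb.omegaZ_le).trans ((cj_vertexZ_le h.1 g b).trans ?_)
    exact le_iSup (fun ν : {ν : CosetVertex M₁ M₂ //
      (cosetGraph M₁ M₂).dist (g • b) ν ≤ n - 1} => vertexZ p (ν : CosetVertex M₁ M₂))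
      ⟨g • b, by rw [SimpleGraph.dist_self]; exact Nat.zero_le _⟩
  · obtain ⟨c, hc, hlt⟩ := exists_closer h.1.1.1 (Ne.symm hμa)
    refine le_trans ?_ (hnb c hc)
    exact le_iSup (fun ν : {ν : CosetVertex M₁ M₂ //
      (cosetGraph M₁ M₂).dist c ν ≤ n - 1} => vertexZ p (ν : CosetVertex M₁ M₂))
      ⟨μ, show (cosetGraph M₁ M₂).dist c μ ≤ n - 1 by
        have : (cosetGraph M₁ M₂).dist c μ < n := lt_of_lt_of_le hlt hμ
        omega⟩

theorem vertexVIter_not_le (h : IsSpeAmalgamPair p M₁ M₂) {a b : CosetVertex M₁ M₂}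
    (hab : (cosetGraph M₁ M₂).Adj a b) {n : ℕ}
    (hVQ : vertexVIter p M₁ M₂ n a ≤ vertexQ p a) :
    ¬ vertexVIter p M₁ M₂ n a ≤ vertexVIter p M₁ M₂ (n - 1) b ∨
      ¬ vertexVIter p M₁ M₂ (n - 1) b ≤ vertexVIter p M₁ M₂ n a := by
  by_contra hc
  simp only [not_or, not_not] at hc
  have hEq : vertexVIter p M₁ M₂ n a = vertexVIter p M₁ M₂ (n - 1) b := le_antisymm hc.1 hc.2
  set U := vertexVIter p M₁ M₂ n a with hU
  have hUE : U ≤ edgeStabilizer a b := hVQ.trans ((vertexQ_le_neighbourKernel h.1 a).trans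
    fun g hg => ⟨(mem_neighbourKernel.1 hg).1, (mem_neighbourKernel.1 hg).2 b hab⟩)
  have hUbot : U = ⊥ := by
    refine fixed_trivial h.1.1.1 h.1.1.2.2.2 a b hab U hUE (fun ν hν => ?_) (fun ν hν => ?_)
    · obtain ⟨g, hg, hgν⟩ := neighbours_transitive a b ν hab hν
      exact ⟨g, stabilizer_le_normalizer_vertexVIter h.1 n a hg, mem_stabilizer_iff.1 hg, hgν⟩
    · obtain ⟨g, hg, hgν⟩ := neighbours_transitive b a ν hab.symm hν
      exact ⟨g, hEq ▸ stabilizer_le_normalizer_vertexVIter h.1 (n - 1) b hg,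
        mem_stabilizer_iff.1 hg, hgν⟩
  haveI := finite_stabilizer h.1 b
  haveI := h.1.2.1
  haveI := h.1.2.2.1
  obtain ⟨T, hT⟩ := exists_isSylOf (p := p) (stabilizer X b)
  have hTne : T ≠ ⊥ := by
    intro hT1
    have hdvd : p ∣ Nat.card (stabilizer X b) := by
      obtain ⟨x, rfl | rfl⟩ := exists_rep b
      · rw [stabilizer_vL, card_cj]; exact h.1.2.2.2.1
      · rw [stabilizer_vR, card_cj]; exact h.1.2.2.2.2.1
    have hc := hT.2
    rw [hT1, card_bot] at hc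
    have h3 := (Fact.out : p.Prime).factorization_pos_of_dvd Nat.card_pos.ne' hdvd
    exact absurd hc.symm (Nat.one_lt_pow h3.ne' (Fact.out : p.Prime).one_lt).ne'
  haveI : Finite T := Finite.of_injective _ (inclusion_injective hT.1)
  have hZ : T ⊓ centralizer (T : Set X) ≠ ⊥ := by
    intro hz
    haveI : Nontrivial T := (nontrivial_iff_ne_bot T).2 hTne
    haveI := hT.isPGroup.center_nontrivial
    obtain ⟨⟨z, hzT⟩, hzc, hz1⟩ := exists_ne (1 : center T) |>.imp (fun z hz => hz) |>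
      fun ⟨z, hz⟩ => (⟨z.1, z.2, fun e => hz (Subtype.ext e)⟩ :
        ∃ z : T, z ∈ center T ∧ z ≠ 1)
    refine hz1 (Subtype.ext (mem_bot.1 (hz ▸ ⟨hzT, mem_centralizer_iff.2 fun t ht => ?_⟩ :
      z ∈ (⊥ : Subgroup X))))
    exact congrArg Subtype.val (mem_center_iff.1 hzc ⟨t, ht⟩)
  have h1 : omegaZ p T ≤ U := by
    rw [hEq]
    exact hT.omegaZ_le.trans (le_iSup (fun ν : {ν : CosetVertex M₁ M₂ //
      (cosetGraph M₁ M₂).dist b ν ≤ n - 1} => vertexZ p (ν : CosetVertex M₁ M₂))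
      ⟨b, by rw [SimpleGraph.dist_self]; exact Nat.zero_le _⟩)
  exact hZ (omegaOne_eq_bot (hT.isPGroup.to_le inf_le_left) (le_bot_iff.1 (h1.trans hUbot.le)))

end CfsgLib.Amalgam
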